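import Cfsg.Agent.Lib.FittingHeight.Layers
import Cfsg.Agent.Lib.FixedFree.ShultGross
import Cfsg.Agent.S3794

/-!
# Gross: Fitting height at most `2 n - 2` for a fixed-point-free automorphism of order `2 ^ n`
-/

set_option autoImplicit false

namespace CfsgLib.FittingHeight

open Subgroup SemidirectProduct CfsgLib.FixedFree
open scoped commutatorElement

universe u

theorem hasNilpotentSeries_one {G : Type u} [Group G] (h : Group.IsNilpotent (⊤ : Subgroup G)) :
    HasNilpotentSeries G 1 :=
  have : Subsingleton (G ⧸ (⊤ : Subgroup G)) := QuotientGroup.subsingleton_quotient_top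
  HasNilpotentSeries.succ (N := (⊤ : Subgroup G)) h (hasNilpotentSeries_zero _)

/-- A series passes to homomorphic images. -/
theorem hasNilpotentSeries_of_surjective {G H : Type u} [Group G] [Group H] (f : G →* H)
    (hf : Function.Surjective f) {n : ℕ} (h : HasNilpotentSeries G n) : HasNilpotentSeries H n := by
  obtain ⟨F, h0, hl, hm, hn, hs⟩ := h
  refine ⟨fun i => (F i).map f, ?_, ?_, fun i j hij => map_mono (hm hij),
    fun i => (hn i).map _ hf, fun i => ?_⟩
  · show (F 0).map _ = ⊥
    rw [h0, Subgroup.map_bot]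
  · show (F (Fin.last n)).map _ = ⊤
    rw [hl, Subgroup.map_top_of_surjective f hf]
  · obtain ⟨k, hk⟩ := hs i
    refine ⟨k, ?_⟩
    rw [← map_lowerCentralSeries]
    exact map_mono hk

set_option maxHeartbeats 1000000 in
/-- Gross's bound on the Fitting height. -/
theorem hasNilpotentSeries_of_fpf_two : ∀ (m : ℕ) {G : Type u} [Group G] [Finite G], Group.IsSolvable G →
    ∀ σ : MulAut G, σ ^ 2 ^ (m + 2) = 1 → (∀ g : G, σ g = g → g = 1) →
      HasNilpotentSeries G (2 * m + 2) := by
  intro m
  induction m with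
  | zero =>
    intro G _ _ hG σ hσ hfpf
    have hnil := Cfsg.Agent.S3794.result hG σ (by simpa using hσ) hfpf
    refine HasNilpotentSeries.succ (N := _root_.commutator G) hnil (hasNilpotentSeries_one ?_)
    refine (isNilpotent_iff_lowerCentralSeries _).2 ⟨1, ?_⟩
    rw [Subgroup.lowerCentralSeries_succ, Subgroup.lowerCentralSeries_zero, eq_bot_iff]
    refine commutator_le.2 fun a _ b _ => mem_bot.2 ?_
    induction a using QuotientGroup.induction_on with
    | _ a =>
      induction b using QuotientGroup.induction_on with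
      | _ b => exact (QuotientGroup.eq_one_iff ⁅a, b⁆).2 (commutator_mem_commutator (mem_top a) (mem_top b))
  | succ m ih =>
    intro G _ _ hG σ hσ hfpf
    have h2 := Fact.mk Nat.prime_two
    let A := zpowers σ
    have hA : IsPGroup 2 A := by
      obtain ⟨i, -, hi⟩ := (Nat.dvd_prime_pow Nat.prime_two).1 (orderOf_dvd_of_pow_eq_one hσ)
      exact IsPGroup.of_card (n := i) (by rw [Nat.card_zpowers, hi])
    let φ : A →* MulAut G := A.subtype
    have hfix : ∀ g : G, (∀ a, φ a g = g) → g = 1 := fun g hg => hfpf g (hg ⟨σ, mem_zpowers σ⟩)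
    have hodd : (Nat.card G).Coprime 2 :=
      ((Nat.prime_two.coprime_iff_not_dvd).2 (not_dvd_card_of_fpf φ hA hfix)).symm
    obtain ⟨i, hi⟩ := IsPGroup.iff_card.1 hA
    have hfp := fpfAction_of_fpf φ hG (hi ▸ hodd.symm.pow_left i) hfix
    set x : G ⋊[φ] A := inr ⟨σ, mem_zpowers σ⟩
    have hgen : inA φ = zpowers x := by
      refine le_antisymm ?_ (zpowers_le.2 ⟨_, rfl⟩)
      rintro _ ⟨⟨a, ha⟩, rfl⟩
      obtain ⟨j, rfl⟩ := mem_zpowers_iff.1 ha
      refine ⟨j, ?_⟩
      show x ^ j = _
      rw [← map_zpow]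
      rfl
    rw [hgen] at hfp
    have := hfp.normal
    have hx : x ^ 2 ^ (m + 1 + 2) = 1 := by
      rw [← map_pow, show (⟨σ, mem_zpowers σ⟩ : A) ^ 2 ^ (m + 1 + 2) = 1 from Subtype.ext hσ, map_one]
    obtain ⟨N, hNn, hNG, hNy, k, hk⟩ := FpfAction.exists_two_layers (by omega) hx
      (by rw [card_inG]; exact hodd) hfp
    -- pull back to `G`
    let ι : G →* G ⋊[φ] A := inl
    have hι : Function.Injective ι := inl_injective
    set N' := N.comap ι
    have hN'n : N'.Normal := hNn.comap _
    set F := Cfsg.fittingSubgroup G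
    have hFn : F.Normal := Solvable.fittingSubgroup_normal G
    have hFle : (fittingIn (inG φ)).comap ι ≤ F := by
      intro g hg
      let e : G ≃* inG φ := MonoidHom.ofInjective inl_injective
      obtain ⟨z, hz, hzg⟩ := hg
      rw [← Solvable.map_fittingSubgroup_equiv e] at hz
      obtain ⟨g', hg', rfl⟩ := hz
      obtain rfl : g' = g := inl_injective (φ := φ) hzg
      exact hg'
    have hN'F : N'.lowerCentralSeries k ≤ F := by
      refine le_trans (map_le_iff_le_comap.1 ?_) hFle
      rw [map_lowerCentralSeries, map_comap_eq_self (show N ≤ ι.range from hNG)]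
      exact hk
    have hσN : ∀ g ∈ N', σ g ∈ N' := fun g hg => by
      show ι (σ g) ∈ N
      rw [show ι (σ g) = x * ι g * x⁻¹ from by rw [← map_inv]; exact inl_aut (φ := φ) (⟨σ, mem_zpowers σ⟩ : A) g]
      exact hNn.conj_mem _ hg x
    have hy : ∀ g : G, g⁻¹ * (σ ^ 2 ^ (m + 2)) g ∈ N' := fun g => by
      show ι (g⁻¹ * (σ ^ 2 ^ (m + 2)) g) ∈ N
      have h1 := hNy (ι g⁻¹) ⟨g⁻¹, rfl⟩
      rw [show m + 1 + 2 - 1 = m + 2 by omega] at h1
      have h3 : ⁅ι g⁻¹, x ^ 2 ^ (m + 2)⁆ = ι (g⁻¹ * (σ ^ 2 ^ (m + 2)) g) := by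
        rw [commutatorElement_def, ← map_inv, inv_inv, map_mul,
          show ι ((σ ^ 2 ^ (m + 2)) g)
            = inr (⟨σ, mem_zpowers σ⟩ ^ 2 ^ (m + 2)) * ι g * inr (⟨σ, mem_zpowers σ⟩ ^ 2 ^ (m + 2))⁻¹ from
            by rw [← inl_aut, map_pow]; rfl, map_inv, map_inv, map_pow]
        simp only [mul_assoc, x]
      rwa [h3] at h1
    have hmap : N'.map σ.toMonoidHom = N' := by
      refine eq_of_le_of_card_ge ?_ (card_map_of_injective σ.injective).ge
      rintro _ ⟨g, hg, rfl⟩
      exact hσN g hg
    let τ : MulAut (G ⧸ N') := QuotientGroup.congr N' N' σ hmap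
    have hτ : ∀ (j : ℕ) (g : G), (τ ^ j) (g : G ⧸ N') = (((σ ^ j) g : G) : G ⧸ N') := fun j g => by
      induction j with
      | zero => rfl
      | succ j ihj =>
        rw [pow_succ', MulAut.mul_apply, ihj, pow_succ', MulAut.mul_apply]
        exact QuotientGroup.congr_mk N' N' σ _ _
    have hser : HasNilpotentSeries (G ⧸ N') (2 * m + 2) := by
      refine ih inferInstance τ ?_ ?_
      · refine MulEquiv.ext fun y => ?_
        induction y using QuotientGroup.induction_on with
        | _ g =>
          rw [hτ, MulAut.one_apply]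
          exact (QuotientGroup.eq.2 (hy g)).symm
      · intro y hy'
        induction y using QuotientGroup.induction_on with
        | _ g =>
          have h1 := hτ 1 g
          rw [pow_one, pow_one] at h1
          rw [h1] at hy'
          exact (QuotientGroup.eq_one_iff g).2 (mem_of_fpf_quotient σ hσN hfpf (QuotientGroup.eq.1 hy'.symm))
    -- two more layers
    set N'' := N' ⊔ F
    have hN''n : N''.Normal := inferInstance
    have hser'' : HasNilpotentSeries (G ⧸ F) (2 * m + 2 + 1) := by
      set π := QuotientGroup.mk' F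
      have hπn : (N''.map π).Normal := hN''n.map _ (QuotientGroup.mk'_surjective F)
      refine HasNilpotentSeries.succ (N := N''.map π) ?_ ?_
      · refine (isNilpotent_iff_lowerCentralSeries _).2 ⟨k, ?_⟩
        rw [show N''.map π = N'.map π by rw [Subgroup.map_sup, QuotientGroup.map_mk'_self, sup_bot_eq],
          ← map_lowerCentralSeries, Subgroup.map_eq_bot_iff, QuotientGroup.ker_mk']
        exact hN'F
      · let e := (QuotientGroup.quotientQuotientEquivQuotient F N'' le_sup_right).symm
        refine hasNilpotentSeries_of_surjective (e.toMonoidHom.comp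
          (QuotientGroup.map N' N'' (MonoidHom.id G) le_sup_left)) (e.surjective.comp fun y => ?_) hser
        obtain ⟨g, rfl⟩ := QuotientGroup.mk'_surjective N'' y
        exact ⟨(g : G ⧸ N'), rfl⟩
    have := hser''.succ Solvable.fittingSubgroup_isNilpotent
    rwa [show 2 * (m + 1) + 2 = 2 * m + 2 + 1 + 1 by omega]

end CfsgLib.FittingHeight
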