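import Cfsg.Agent.Lib.FittingHeight.TopFitting
import Cfsg.Agent.Lib.FixedFree.BaseChange
import Cfsg.Agent.Lib.FixedFree.LocalCores
import Cfsg.Agent.Lib.FixedFree.PrimePowerRep

/-!
# The top of a fixed-point-free element is trivial above the second layer
-/

set_option autoImplicit false

namespace CfsgLib.FittingHeight

open Subgroup Module Polynomial CfsgLib.HallHigman CfsgLib.FixedFree
open scoped commutatorElement

universe u

variable {X : Type u} [Group X] [Finite X]

/-- An element of period `N` without fixed vectors has degree below `N`. -/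
theorem deg_lt_of_noFixed' {K : Type*} [Field K] {V : Type*} [AddCommGroup V] [Module K V]
    [FiniteDimensional K V] {G : Type*} [Group G] (ρ : Representation K G V) {x : G} {N : ℕ} (hN : 0 < N)
    (hxN : x ^ N = 1) (hfix : ∀ v : V, ρ x v = v → v = 0) : deg (ρ x) < N := by
  classical
  set P : K[X] := ∑ i : Fin N, monomial (i : ℕ) 1
  have hP : P ≠ 0 := fun e => by
    have h1 := congrArg (fun p : K[X] => p.coeff 0) e
    simp only [P, finset_sum_coeff, coeff_monomial, coeff_zero] at h1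
    rw [Finset.sum_eq_single ⟨0, hN⟩ (fun i _ hi => if_neg fun h => hi (Fin.ext h))
      (fun h => absurd (Finset.mem_univ _) h), if_pos rfl] at h1
    exact one_ne_zero h1
  have hnat : P.natDegree < N := by
    refine Nat.lt_of_le_pred hN (natDegree_sum_le_of_forall_le _ _ fun i _ => ?_)
    refine (natDegree_monomial_le _).trans ?_
    have := i.2
    simp only [Nat.pred_eq_sub_one]; omega
  refine lt_of_le_of_lt (deg_le_of_aeval_eq_zero hP (LinearMap.ext fun v => ?_)) hnat
  have hs : aeval (ρ x) P = ∑ i ∈ Finset.range N, ρ x ^ i := by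
    simp only [P, map_sum, aeval_monomial, map_one, one_mul]
    exact Fin.sum_univ_eq_sum_range (fun i => ρ x ^ i) N
  rw [hs, LinearMap.zero_apply]
  refine hfix _ ?_
  have h1 : ρ x * ∑ i ∈ Finset.range N, ρ x ^ i = ∑ i ∈ Finset.range N, ρ x ^ i := by
    refine add_right_cancel (b := (1 : Module.End K V)) ?_
    rw [Finset.mul_sum]
    simp only [← pow_succ']
    have h2 := Finset.sum_range_succ' (fun i => ρ x ^ i) N
    rw [Finset.sum_range_succ, ← map_pow ρ x N, hxN, map_one, pow_zero] at h2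
    exact h2.symm
  exact congrArg (fun f : Module.End K V => f v) h1

set_option maxHeartbeats 1000000 in
/-- The layer of one prime. -/
theorem FpfAction.exists_layer {G : Subgroup X} [G.Normal] {x : X} {n : ℕ} (hn : 1 ≤ n)
    (hx : x ^ 2 ^ n = 1) (hodd : (Nat.card G).Coprime 2) (h : FpfAction (zpowers x) G) {r : ℕ}
    (hr : r.Prime) (hr2 : r ≠ 2) :
    ∃ Kr Nr : Subgroup X, Kr.Normal ∧ Nr.Normal ∧ Kr ≤ G ∧ Nr ≤ G ∧
      (∀ g ∈ G, ⁅g, x ^ 2 ^ (n - 1)⁆ ∈ Nr) ∧ (∃ k : ℕ, Nr.lowerCentralSeries k ≤ Kr) ∧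
      ∀ g ∈ Kr, (orderOf g).Coprime r → ∀ u ∈ pCoreIn r G, Commute g u := by
  classical
  have := Fact.mk hr
  have hsol := h.solvable
  set N1 := (Cfsg.pPrimeCore r G).map G.subtype with hN1
  have hN1n : N1.Normal := by
    have := Solvable.pPrimeCore_characteristic r G
    exact Solvable.map_subtype_normal _
  have hN1G : N1 ≤ G := map_subtype_le _
  set π₁ := QuotientGroup.mk' N1
  set G1 := G.map π₁ with hG1
  have hG1n : G1.Normal := Subgroup.Normal.map inferInstance _ (QuotientGroup.mk'_surjective _)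
  have hG1s : Group.IsSolvable G1 := Coprime.isSolvable_map π₁ hsol
  have hO : Cfsg.pPrimeCore r G1 = ⊥ := by
    set N' := (Cfsg.pPrimeCore r G1).map G1.subtype
    have hN'n : N'.Normal := by
      have := Solvable.pPrimeCore_characteristic r G1
      exact Solvable.map_subtype_normal _
    set P := N'.comap π₁
    have hPn : P.Normal := hN'n.comap _
    have hPG : P ≤ G := fun g hg => by
      obtain ⟨t, ht, e⟩ := map_subtype_le _ hg
      exact (mul_mem_cancel_left (inv_mem ht)).1 (hN1G (QuotientGroup.eq.1 e))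
    have hPcop : (Nat.card P).Coprime r := by
      have h1 := Subgroup.card_mul_index (N1.subgroupOf P)
      rw [Nat.card_congr (subgroupOfEquivOfLe (QuotientGroup.le_comap_mk' N1 N')).toEquiv,
        show (N1.subgroupOf P).index = N1.relIndex P from rfl, PLength.relIndex_comap_mk'] at h1
      rw [← h1]
      exact (qPrimeCoreIn_coprime r G).mul_left (qPrimeCoreIn_coprime r G1)
    have hle : P.subgroupOf G ≤ Cfsg.pPrimeCore r G := Solvable.le_pPrimeCore inferInstance
      (by rw [Nat.card_congr (subgroupOfEquivOfLe hPG).toEquiv]; exact hPcop)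
    refine (Subgroup.eq_bot_iff_forall _).2 fun g hg => ?_
    obtain ⟨t, ht, e⟩ := g.2
    have htP : t ∈ P := by
      show π₁ t ∈ N'
      rw [e]; exact ⟨g, hg, rfl⟩
    have h2 : t ∈ N1 := ⟨⟨t, hPG htP⟩, hle (mem_subgroupOf.2 htP), rfl⟩
    exact Subtype.ext (e.symm.trans ((QuotientGroup.eq_one_iff t).2 h2))
  set Q := pCoreIn r G1
  have hQ : IsPGroup r Q := pCoreIn_isPGroup r G1
  have hQG : Q ≤ G1 := pCoreIn_le r G1
  let K := AlgebraicClosure (ZMod r)
  let τ := extend K (modRep hQ)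
  set π₂ := QuotientGroup.mk' τ.ker
  set π := π₂.comp π₁
  set M2 := G1.map π₂
  have hM2n : M2.Normal := Subgroup.Normal.map inferInstance _ (QuotientGroup.mk'_surjective _)
  let ρ₂ : Representation K ((X ⧸ N1) ⧸ τ.ker) _ := QuotientGroup.lift τ.ker τ le_rfl
  have hρ₂ : ∀ t, ρ₂ (π₂ t) = τ t := fun t => QuotientGroup.lift_mk' _ _ t
  -- the part acting trivially is an `r`-group
  have hkerQ : ∀ g ∈ G1, g ∈ τ.ker → (orderOf g).Coprime r → g = 1 := by
    intro g hg hgk hcop
    have hc := commutator_eq_bot_of_le_frattiniIn (S := zpowers g) hQ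
      (by rw [Subgroup.normalizer_eq_top]; exact le_top) (by rwa [Nat.card_zpowers])
      (fun s hs u hu => by
        refine (modRep_fix_iff hQ s hu).1 ?_
        have h1 : τ s = 1 := MonoidHom.mem_ker.1 ((zpowers_le.2 hgk) hs)
        have h2 : modRep hQ s = 1 := by
          rw [← map_one (modRep hQ)]
          exact (extend_eq_iff K _ _ _).1 (h1.trans (map_one τ).symm)
        rw [h2, Module.End.one_apply])
    have hmem : (⟨g, hg⟩ : G1) ∈ Cfsg.pCore r G1 :=
      Solvable.centralizer_pCore_le r hO (mem_centralizer_iff.2 fun u hu => Subtype.ext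
        (commutatorElement_eq_one_iff_mul_comm.1
          (mem_bot.1 (hc ▸ commutator_mem_commutator (show (u : X ⧸ N1) ∈ Q from ⟨u, hu, rfl⟩) (mem_zpowers g)))))
    obtain ⟨k, hk⟩ := IsPGroup.iff_orderOf.1 (Solvable.pCore_isPGroup r) (⟨⟨g, hg⟩, hmem⟩ : Cfsg.pCore r G1)
    rw [Subgroup.orderOf_mk, Subgroup.orderOf_mk] at hk
    refine orderOf_eq_one_iff.1 (Nat.eq_one_of_dvd_coprimes (hcop.pow_right k) dvd_rfl (hk ▸ dvd_rfl))
  have hQker : Q ≤ τ.ker := fun g hg => by
    rw [MonoidHom.mem_ker, ← map_one τ]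
    refine (extend_eq_iff K _ _ _).2 (LinearMap.ext fun v => ?_)
    obtain ⟨u, hu, rfl⟩ := exists_modVec hQ v
    rw [map_one, Module.End.one_apply, modRep_fix_iff hQ g hu]
    refine ⟨_, CfsgLib.StructC.comm_mem_frattini hQ (⟨g, hg⟩ : Q)⁻¹ (⟨u, hu⟩ : Q)⁻¹, ?_⟩
    simp [commutatorElement_def]
  -- the linear configuration
  have hodd1 : (Nat.card G1).Coprime 2 := hodd.coprime_dvd_left (Subgroup.card_map_dvd G π₁)
  have htop : FpfTop ρ₂ M2 (π x) n := by
    refine
      { normal := hM2n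
        solvable := Coprime.isSolvable_map π₂ hG1s
        odd := hodd1.coprime_dvd_left (Subgroup.card_map_dvd G1 π₂)
        two := natCast_ne_zero_of_coprime K hr ((Nat.coprime_primes Nat.prime_two hr).2 hr2.symm)
        core := fun q hq hqK => ?_
        inj := fun a b hab => ?_
        one_le := hn
        pow := by rw [← map_pow, hx, map_one]
        deg_lt := ?_ }
    · obtain rfl : q = r := ((Nat.prime_dvd_prime_iff_eq hr hq).1 ((CharP.cast_eq_zero_iff K r q).1 hqK)).symm
      set C := pCoreIn q M2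
      set T := G1 ⊓ C.comap π₂
      have hTp : IsPGroup q T := by
        intro t
        obtain ⟨a, s, hs, hts⟩ := Nat.exists_eq_pow_mul_and_not_dvd (orderOf_pos (t : X ⧸ N1)).ne' q hq.ne_one
        refine ⟨a, Subtype.ext ?_⟩
        rw [SubgroupClass.coe_pow, OneMemClass.coe_one]
        set g := (t : X ⧸ N1) ^ q ^ a
        have hgo : g ^ s = 1 := by rw [← pow_mul, ← hts, pow_orderOf_eq_one]
        have hcop : (orderOf g).Coprime q :=
          ((hq.coprime_iff_not_dvd).2 hs).symm.coprime_dvd_left (orderOf_dvd_of_pow_eq_one hgo)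
        have hgT : g ∈ T := pow_mem t.2 _
        obtain ⟨k, hk⟩ := pCoreIn_isPGroup q M2 ⟨π₂ g, hgT.2⟩
        have h1 : π₂ g = 1 := orderOf_eq_one_iff.1 (Nat.eq_one_of_dvd_coprimes (hcop.pow_right k)
          (orderOf_map_dvd π₂ g) (orderOf_dvd_of_pow_eq_one (congrArg Subtype.val hk : π₂ g ^ q ^ k = 1)))
        exact hkerQ g hgT.1 ((QuotientGroup.eq_one_iff g).1 h1) hcop
      have hTQ : T ≤ Q := le_pCoreIn inf_le_left hTp
      refine (Subgroup.eq_bot_iff_forall _).2 fun c hc => ?_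
      obtain ⟨g, hg, rfl⟩ := pCoreIn_le q M2 hc
      exact (QuotientGroup.eq_one_iff g).2 (hQker (hTQ ⟨hg, hc⟩))
    · obtain ⟨a, rfl⟩ := QuotientGroup.mk'_surjective τ.ker a
      obtain ⟨b, rfl⟩ := QuotientGroup.mk'_surjective τ.ker b
      rw [hρ₂, hρ₂] at hab
      exact QuotientGroup.eq.2 (MonoidHom.mem_ker.2 (by
        rw [map_mul, ← hab, ← map_mul, inv_mul_cancel, map_one]))
    · rw [show ρ₂ (π x) = τ (π₁ x) from hρ₂ _]
      refine deg_lt_of_noFixed' τ (pow_pos two_pos n) (by rw [← map_pow, hx, map_one]) ?_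
      refine noFixed_zpowers_iff.1 ?_
      have hcopX : (Nat.card (zpowers x)).Coprime (Nat.card G) := h.coprime
      have hcopA : (Nat.card (zpowers (π₁ x))).Coprime r := by
        rw [Nat.card_zpowers]
        exact (((Nat.coprime_primes Nat.prime_two hr).2 hr2.symm).pow_left n).coprime_dvd_left
          ((orderOf_map_dvd π₁ x).trans (orderOf_dvd_of_pow_eq_one hx))
      refine (noFixed_modRep hQ hcopA ?_).extend ?_
      · refine le_bot_iff.1 ((inf_le_inf_right _ hQG).trans ?_)
        rw [← MonoidHom.map_zpowers π₁ x, hG1, ← Coprime.map_inf_centralizer π₁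
          (by rw [Subgroup.normalizer_eq_top]; exact le_top) hcopX (Or.inr hsol), h.fix, Subgroup.map_bot]
      · exact natCast_ne_zero_of_coprime K hr hcopA
  refine ⟨G ⊓ π.ker, G ⊓ (fittingIn M2).comap π, inferInstance, inferInstance, inf_le_left, inf_le_left,
    fun g hg => ⟨?_, ?_⟩, ?_, ?_⟩
  · rw [show ⁅g, x ^ 2 ^ (n - 1)⁆ = g * (x ^ 2 ^ (n - 1) * g⁻¹ * (x ^ 2 ^ (n - 1))⁻¹) by
      rw [commutatorElement_def]; group]
    exact mul_mem hg (h.normal.conj_mem _ (inv_mem hg) _)
  · show π ⁅g, x ^ 2 ^ (n - 1)⁆ ∈ fittingIn M2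
    rw [map_commutatorElement, map_pow]
    exact htop.commutator_mem_fitting _ ⟨π₁ g, mem_map_of_mem _ hg, rfl⟩
  · have hnil : Group.IsNilpotent (fittingIn M2) := by
      have := Solvable.fittingSubgroup_isNilpotent (G := M2)
      exact (Group.isNilpotent_congr
        ((Cfsg.fittingSubgroup M2).equivMapOfInjective _ M2.subtype_injective)).1 this
    obtain ⟨k, hk⟩ := (isNilpotent_iff_lowerCentralSeries _).1 hnil
    refine ⟨k, le_inf ((Subgroup.lowerCentralSeries_antitone _ (Nat.zero_le k)).trans inf_le_left) ?_⟩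
    rw [← Subgroup.map_eq_bot_iff, map_lowerCentralSeries, eq_bot_iff, ← hk]
    have hmono : ∀ j, ∀ A B : Subgroup ((X ⧸ N1) ⧸ τ.ker), A ≤ B →
        A.lowerCentralSeries j ≤ B.lowerCentralSeries j := fun j A B hAB => by
      induction j with
      | zero => exact hAB
      | succ j ih => exact commutator_mono ih hAB
    exact hmono k _ _ (map_le_iff_le_comap.2 inf_le_right)
  · intro g hg hcop u hu
    have h1 : π₁ g = 1 := hkerQ _ (mem_map_of_mem _ hg.1) ((QuotientGroup.eq_one_iff (π₁ g)).1 hg.2)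
      (hcop.coprime_dvd_left (orderOf_map_dvd π₁ g))
    have hgN : g ∈ N1 := (QuotientGroup.eq_one_iff g).1 h1
    have hdisj : N1 ⊓ pCoreIn r G = ⊥ := by
      obtain ⟨k, hk⟩ := IsPGroup.iff_card.1 (pCoreIn_isPGroup r G)
      refine disjoint_iff.1 (Subgroup.disjoint_of_coprime_natCard ?_)
      rw [hk]
      exact (qPrimeCoreIn_coprime r G).pow_right k
    exact Subgroup.commute_of_normal_of_disjoint N1 (pCoreIn r G) hN1n inferInstance
      (disjoint_iff.2 hdisj) g u hgN hu

set_option maxHeartbeats 1000000 in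
/-- The top of a fixed-point-free element is trivial above the second layer. -/
theorem FpfAction.exists_two_layers {G : Subgroup X} [G.Normal] {x : X} {n : ℕ} (hn : 1 ≤ n)
    (hx : x ^ 2 ^ n = 1) (hodd : (Nat.card G).Coprime 2) (h : FpfAction (zpowers x) G) :
    ∃ N : Subgroup X, N.Normal ∧ N ≤ G ∧ (∀ g ∈ G, ⁅g, x ^ 2 ^ (n - 1)⁆ ∈ N) ∧
      ∃ k : ℕ, N.lowerCentralSeries k ≤ fittingIn G := by
  classical
  have hsol := h.solvable
  set I := (Nat.card G).primeFactors
  have hr : ∀ r : I, (r : ℕ).Prime ∧ (r : ℕ) ≠ 2 := fun r =>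
    ⟨Nat.prime_of_mem_primeFactors r.2, fun e => by
      have := Nat.dvd_of_mem_primeFactors r.2
      rw [e] at this
      exact absurd (Nat.eq_one_of_dvd_coprimes hodd this dvd_rfl) (by norm_num)⟩
  choose Kr Nr hKn hNn hKG hNG hy hk hK using fun r : I =>
    FpfAction.exists_layer hn hx hodd h (hr r).1 (hr r).2
  choose k hk using hk
  set N := G ⊓ ⨅ r, Nr r
  set Kall := G ⊓ ⨅ r, Kr r
  have hNnorm : N.Normal := by
    have : (⨅ r, Nr r).Normal := Subgroup.normal_iInf_normal hNn
    infer_instance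
  have hKnorm : Kall.Normal := by
    have : (⨅ r, Kr r).Normal := Subgroup.normal_iInf_normal hKn
    infer_instance
  refine ⟨N, hNnorm, inf_le_left, fun g hg => ⟨?_, mem_iInf.2 fun r => hy r g hg⟩, Finset.univ.sup k, ?_⟩
  · rw [show ⁅g, x ^ 2 ^ (n - 1)⁆ = g * (x ^ 2 ^ (n - 1) * g⁻¹ * (x ^ 2 ^ (n - 1))⁻¹) by
      rw [commutatorElement_def]; group]
    exact mul_mem hg (h.normal.conj_mem _ (inv_mem hg) _)
  have hmono : ∀ j, ∀ A B : Subgroup X, A ≤ B → A.lowerCentralSeries j ≤ B.lowerCentralSeries j :=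
    fun j A B hAB => by
      induction j with
      | zero => exact hAB
      | succ j ih => exact commutator_mono ih hAB
  refine le_trans (le_inf ((Subgroup.lowerCentralSeries_antitone _ (Nat.zero_le _)).trans inf_le_left)
    (le_iInf fun r => ?_) : N.lowerCentralSeries (Finset.univ.sup k) ≤ Kall) ?_
  · exact (Subgroup.lowerCentralSeries_antitone _ (Finset.le_sup (Finset.mem_univ r))).trans
      ((hmono _ _ _ (inf_le_right.trans (iInf_le _ r))).trans (hk r))
  -- `Kall` lies in the Fitting subgroup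
  have hKG' : Kall ≤ G := inf_le_left
  have hprime : ∀ g ∈ Kall, ∀ r : ℕ, r.Prime → (orderOf g).Coprime r →
      ∀ u ∈ pCoreIn r G, Commute g u := by
    intro g hg r hr' hcop u hu
    by_cases hrI : r ∈ I
    · exact hK ⟨r, hrI⟩ g (mem_iInf.1 hg.2 ⟨r, hrI⟩) hcop u hu
    · have := Fact.mk hr'
      obtain ⟨j, hj⟩ := IsPGroup.iff_card.1 (pCoreIn_isPGroup r G)
      have hd := Subgroup.card_dvd_of_le (pCoreIn_le r G)
      rw [hj] at hd
      have hj0 : j = 0 := by
        by_contra hj0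
        exact hrI (Nat.mem_primeFactors.2 ⟨hr', (dvd_pow_self r hj0).trans hd, Nat.card_pos.ne'⟩)
      rw [hj0, pow_zero, Subgroup.card_eq_one] at hj
      rw [hj, mem_bot] at hu
      rw [hu]; exact Commute.one_right g
  by_contra hnle
  set F := fittingIn G
  set mk := QuotientGroup.mk' F
  have hne : Kall.map mk ≠ ⊥ := fun e => hnle (by
    rwa [Subgroup.map_eq_bot_iff, QuotientGroup.ker_mk'] at e)
  have : Group.IsSolvable Kall := Coprime.isSolvable_of_le hsol hKG'
  have hmapn : (Kall.map mk).Normal := hKnorm.map _ (QuotientGroup.mk'_surjective _)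
  obtain ⟨W, hWn, hWb, hWle, hWmin⟩ := Solvable.exists_minimal_normal_le hmapn hne
  have : Group.IsSolvable W := Coprime.isSolvable_of_le (Coprime.isSolvable_map mk ‹_›) hWle
  obtain ⟨q, hq, hWq, -, -⟩ := Solvable.exists_isPGroup_of_minimal_normal hWb hWmin
  have := Fact.mk hq
  set T := Kall ⊓ W.comap mk
  have hTpow : ∀ t ∈ T, ∃ k : ℕ, t ^ q ^ k ∈ F := fun t ht => by
    obtain ⟨k, hk⟩ := hWq ⟨mk t, ht.2⟩
    refine ⟨k, (QuotientGroup.eq_one_iff _).1 ?_⟩
    show mk (t ^ q ^ k) = 1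
    rw [map_pow]; exact congrArg Subtype.val hk
  have hTF : T ≤ F := by
    intro t ht
    obtain ⟨a, s, hs, hts⟩ := Nat.exists_eq_pow_mul_and_not_dvd (orderOf_pos t).ne' q hq.ne_one
    -- the `q`-part
    have hc : t ^ s ∈ F := mem_fittingIn_of_centralizes (T := T) (inf_le_left.trans hKG') hTpow (pow_mem ht s)
      fun p hp hpq u hu => hprime _ (pow_mem ht.1 s) p hp
        ((((Nat.coprime_primes hq hp).2 (Ne.symm hpq)).pow_left a).coprime_dvd_left
          (orderOf_dvd_of_pow_eq_one (by rw [← pow_mul, mul_comm, ← hts, pow_orderOf_eq_one]))) u hu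
    obtain ⟨k, hk⟩ := hTpow t ht
    have hcop : IsCoprime ((s : ℕ) : ℤ) ((q ^ k : ℕ) : ℤ) :=
      Nat.isCoprime_iff_coprime.2 (((hq.coprime_iff_not_dvd).2 hs).symm.pow_right k)
    obtain ⟨A, B, hAB⟩ := hcop
    rw [← zpow_one t, ← hAB, zpow_add, mul_comm A, mul_comm B, zpow_mul, zpow_mul, zpow_natCast, zpow_natCast]
    exact mul_mem (zpow_mem hc _) (zpow_mem hk _)
  refine hWb ((Subgroup.eq_bot_iff_forall _).2 fun w hw => ?_)
  obtain ⟨t, ht, rfl⟩ := hWle hw
  exact (QuotientGroup.eq_one_iff t).2 (hTF ⟨ht, hw⟩)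

end CfsgLib.FittingHeight
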