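import Cfsg.Agent.Lib.FittingHeight.TopOdd
import Cfsg.Agent.Lib.TwoLength.TopStep
import Cfsg.Agent.Lib.FixedFree.Tower

/-!
# The top is trivial modulo the Fitting subgroup
-/

set_option autoImplicit false

namespace CfsgLib.FittingHeight

open Subgroup Module CfsgLib.HallHigman CfsgLib.FixedFree CfsgLib.TwoLength
open scoped commutatorElement

universe u v w

variable {K : Type u} [Field K] [IsAlgClosed K] {V : Type v} [AddCommGroup V] [Module K V]
  [FiniteDimensional K V] {X : Type w} [Group X] [Finite X] {ρ : Representation K X V} {M : Subgroup X}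
  [M.Normal] {x : X} {n : ℕ}

namespace FpfTop

variable (h : FpfTop ρ M x n)
include h

theorem top_sq : x ^ 2 ^ (n - 1) * x ^ 2 ^ (n - 1) = 1 := by
  rw [← pow_add, ← two_mul, ← pow_succ', Nat.sub_add_cancel h.one_le, h.pow]

theorem coprime_zpowers {H : Subgroup X} (hH : H ≤ M) : (Nat.card (zpowers x)).Coprime (Nat.card H) := by
  rw [Nat.card_zpowers]
  exact ((h.odd.symm.pow_left n).coprime_dvd_left (orderOf_dvd_of_pow_eq_one h.pow)).coprime_dvd_right
    (card_dvd_of_le hH)

theorem prime_ne_two {q : ℕ} (hq : q.Prime) (hne : pCoreIn q M ≠ ⊥) : q ≠ 2 := by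
  intro e
  subst e
  obtain ⟨k, hk⟩ := IsPGroup.iff_card.1 (pCoreIn_isPGroup (X := X) 2 M)
  have hk0 : k ≠ 0 := fun e => hne (card_eq_one.1 (by rw [hk, e, pow_zero]))
  have h1 := h.odd.coprime_dvd_left (card_dvd_of_le (pCoreIn_le 2 M))
  rw [hk] at h1
  exact absurd (Nat.eq_one_of_dvd_coprimes h1 (dvd_pow_self 2 hk0) dvd_rfl) (by norm_num)

set_option maxHeartbeats 1000000 in
/-- A commutator with the top in a normalised `r`-group centralises the other cores. -/
theorem commute_core {r q : ℕ} (hr : r.Prime) (hr2 : r ≠ 2) (hq : q.Prime) (hqr : q ≠ r) {R : Subgroup X}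
    (hR : IsPGroup r R) (hxR : x ∈ normalizer (R : Set X)) {s : X} (hs : s ∈ R) :
    ∀ g ∈ pCoreIn q M, Commute ⁅s, x ^ 2 ^ (n - 1)⁆ g := by
  classical
  intro g hg
  by_cases hne : pCoreIn q M = ⊥
  · rw [hne, mem_bot] at hg
    rw [hg]; exact Commute.one_right _
  have hq2 := h.prime_ne_two hq hne
  have hqK : (q : K) ≠ 0 := fun e => hne (h.core q hq e)
  have := Fact.mk hq
  set y := x ^ 2 ^ (n - 1) with hy
  have hyT : y ∈ topClosure x n := top_mem x n
  have hyR : y ∈ normalizer (R : Set X) := pow_mem hxR _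
  set u := ⁅s, y⁆ with hu
  have huR : u ∈ R := commutator_mem_of_normalizer hs hyR
  have huT : u ∈ topClosure x n :=
    mul_mem ((topClosure_normal x n).conj_mem y hyT s) (inv_mem hyT)
  have hinv : y * u * y⁻¹ = u⁻¹ := inverted_commutator h.top_sq
  refine (h.centralizes_core hq hq2 hqK huT ?_ (fun χ hw => ?_) g hg).symm
  · obtain ⟨k, hk⟩ := hR ⟨u, huR⟩
    exact (((Nat.coprime_primes hr hq).2 (Ne.symm hqr)).pow_left k).coprime_dvd_left
      (orderOf_dvd_of_pow_eq_one (congrArg Subtype.val hk : u ^ r ^ k = 1))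
  set St := charStabilizer (centerIn (core' M x n q)) χ
  have hTS := h.top_le_stab hq hq2 hqK χ
  set uS : St := ⟨u, hTS huT⟩
  set yS : St := ⟨y, hTS hyT⟩
  have hinvS : hw.act yS * hw.act uS * (hw.act yS)⁻¹ = (hw.act uS)⁻¹ := by
    rw [← map_inv, ← map_inv, ← map_mul, ← map_mul]
    exact congrArg hw.act (Subtype.ext hinv)
  have hodd : Odd (orderOf (hw.act uS)) :=
    Odd.of_dvd_nat (odd_orderOf_of_isPGroup hr hr2 hR huR)
      ((orderOf_map_dvd _ uS).trans (dvd_of_eq (Subgroup.orderOf_coe uS).symm))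
  refine eq_one_of_inverted hodd hinvS ?_
  by_cases hmov : hw.act yS = 1
  · rw [hmov, one_mul, mul_one]
  obtain ⟨j, k, hz, hplane, hinvol⟩ := h.exists_plane hq2 hqK hw (hTS hyT) hmov
  rw [← hinvol]
  set R' : Subgroup St := (R ⊓ topClosure x n).subgroupOf St
  have hzN : hw.act ⟨_, hz⟩ ∈ normalizer ((R'.map hw.act : Subgroup _) : Set (MulAut hw.Space)) := by
    refine le_normalizer_map hw.act ⟨⟨_, hz⟩, ?_, rfl⟩
    refine mem_normalizer_of_conj_mem fun t ht => ?_
    exact mem_subgroupOf.2 ⟨conj_mem_of_mem_normalizer (pow_mem hxR _) (mem_subgroupOf.1 ht).1,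
      (topClosure_normal x n).conj_mem _ (mem_subgroupOf.1 ht).2 _⟩
  refine hplane.commute_of_coprime hr hr2 (Ne.symm hqr) (R := R'.map hw.act) ?_ hzN _ ?_
  · refine (IsPGroup.of_injective (hR.to_le (inf_le_left : R ⊓ topClosure x n ≤ R)) ?_ ?_).map _
    · exact ((Subgroup.subtype St).comp R'.subtype).codRestrict (R ⊓ topClosure x n) fun t => t.2
    · exact fun a b hab => Subtype.ext (Subtype.ext
        (congrArg (fun t : (R ⊓ topClosure x n : Subgroup X) => (t : X)) hab))
  · exact ⟨uS, ⟨huR, huT⟩, rfl⟩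

/-- The top is trivial on `M` modulo its Fitting subgroup. -/
theorem commutator_mem_fitting : ∀ g ∈ M, ⁅g, x ^ 2 ^ (n - 1)⁆ ∈ fittingIn M := by
  set x₀ := x ^ 2 ^ (n - 1)
  set F := fittingIn M
  set mk := QuotientGroup.mk' F
  set Mb := M.map mk
  have : Mb.Normal := Subgroup.Normal.map inferInstance _ (QuotientGroup.mk'_surjective _)
  have : Group.IsSolvable Mb := Coprime.isSolvable_map mk h.solvable
  have hFM : F ≤ M := fittingIn_le M
  have hcores : ∀ q : Nat.Primes, ∀ t ∈ pCoreIn (q : ℕ) Mb, Commute (mk x₀) t := by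
    intro q t ht
    have := Fact.mk q.2
    set T := (pCoreIn (q : ℕ) Mb).comap mk with hT
    have hTM : T ≤ M := fun y hy => by
      obtain ⟨g, hg, hgy⟩ := pCoreIn_le (q : ℕ) Mb hy
      exact (Subgroup.mul_mem_cancel_left M (inv_mem hg)).1 (hFM (QuotientGroup.eq.1 hgy))
    have hFT : F ≤ T := fun y hy => by
      show mk y ∈ pCoreIn (q : ℕ) Mb
      rw [show mk y = 1 from (QuotientGroup.eq_one_iff y).2 hy]; exact one_mem _
    have hTn : T.Normal := inferInstance
    have hTpow : ∀ y ∈ T, ∃ k : ℕ, y ^ (q : ℕ) ^ k ∈ F := fun y hy => by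
      obtain ⟨k, hk⟩ := pCoreIn_isPGroup (q : ℕ) Mb ⟨mk y, hy⟩
      refine ⟨k, (QuotientGroup.eq_one_iff _).1 ?_⟩
      show mk (y ^ (q : ℕ) ^ k) = 1
      rw [map_pow]; exact congrArg Subtype.val hk
    obtain ⟨SQ, hSQ⟩ := Coprime.exists_invariant_sylow
      (show zpowers x ≤ normalizer (T : Set X) by rw [Subgroup.normalizer_eq_top]; exact le_top)
      (h.coprime_zpowers hTM) (Or.inr (Coprime.isSolvable_of_le h.solvable hTM)) (q : ℕ)
    set Q := (SQ : Subgroup T).map T.subtype
    have hsup : Q ⊔ F = T := sylow_sup_eq hFT (by rw [Subgroup.normalizer_eq_top]; exact le_top) hTpow SQ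
    obtain ⟨y, hy⟩ := QuotientGroup.mk'_surjective F t
    have hyT : y ∈ T := by
      show mk y ∈ pCoreIn (q : ℕ) Mb
      rw [show mk y = t from hy]; exact ht
    obtain ⟨s, hs, f, hf, hsf⟩ := Subgroup.mem_sup_of_normal_right.1 (hsup.ge hyT)
    have hxQ := hSQ (mem_zpowers x)
    have hts : t = mk s := by
      rw [← hy, ← hsf, map_mul, show mk f = 1 from (QuotientGroup.eq_one_iff f).2 hf, mul_one]
    have hQT : Q ≤ T := Subgroup.map_subtype_le _
    by_cases hq2 : (q : ℕ) = 2
    · obtain ⟨k, hk⟩ := SQ.2.map T.subtype ⟨s, hs⟩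
      have hsM : s ∈ M := hTM (hQT hs)
      have hk' : s ^ (q : ℕ) ^ k = 1 := congrArg Subtype.val hk
      rw [hq2] at hk'
      have h1 : s = 1 := orderOf_eq_one_iff.1 (Nat.eq_one_of_dvd_coprimes (h.odd.pow_right k)
        (Subgroup.orderOf_dvd_natCard _ hsM) (orderOf_dvd_of_pow_eq_one hk'))
      rw [hts, h1, map_one]
      exact Commute.one_right _
    have hcT : ⁅s, x₀⁆ ∈ T := hQT (commutator_mem_of_normalizer hs (pow_mem hxQ _))
    have hcF : ⁅s, x₀⁆ ∈ F := mem_fittingIn_of_centralizes hTM hTpow hcT fun r hr hrq =>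
      h.commute_core q.2 hq2 hr hrq (SQ.2.map _) hxQ hs
    rw [hts]
    refine Commute.symm (commutatorElement_eq_one_iff_commute.1 ?_)
    rw [← map_commutatorElement]
    exact (QuotientGroup.eq_one_iff _).2 hcF
  -- it centralises the Fitting subgroup of the quotient, hence the quotient
  set B := zpowers (mk x₀)
  have hBF : ⁅fittingIn Mb, B⁆ = ⊥ := by
    refine commutator_eq_bot_iff_le_centralizer.2 ?_
    show (Cfsg.fittingSubgroup Mb).map Mb.subtype ≤ _
    rw [Solvable.fittingSubgroup_eq_iSup_pCore, Subgroup.map_iSup]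
    refine iSup_le fun q t ht => mem_centralizer_iff.2 fun b hb => ?_
    obtain ⟨i, rfl⟩ := mem_zpowers_iff.1 hb
    exact ((hcores q t ht).zpow_left i).eq
  have hBn : B ≤ normalizer (Mb : Set (X ⧸ F)) := by rw [Subgroup.normalizer_eq_top]; exact le_top
  have h1 : ⁅⁅Mb, B⁆, fittingIn Mb⁆ = ⊥ := by
    refine commutator_commutator_eq_bot_of_rotate ?_ ?_
    · rw [commutator_comm B, hBF, commutator_bot_left]
    · exact le_bot_iff.1 ((commutator_mono (le_normalizer_iff_commutator_le_left.1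
        (by rw [Subgroup.normalizer_eq_top]; exact le_top)) le_rfl).trans hBF.le)
  have h2 : ⁅Mb, B⁆ ≤ fittingIn Mb := fun g hg => by
    have hgM : g ∈ Mb := le_normalizer_iff_commutator_le_left.1 hBn hg
    refine ⟨⟨g, hgM⟩, Solvable.centralizer_fittingSubgroup_le (mem_centralizer_iff.2 fun u hu => Subtype.ext ?_), rfl⟩
    exact mem_centralizer_iff.1 (commutator_eq_bot_iff_le_centralizer.1 h1 hg) u ⟨u, hu, rfl⟩
  have hcop : (Nat.card B).Coprime (Nat.card Mb) := by
    refine Nat.Coprime.coprime_dvd_right (Subgroup.card_map_dvd M mk)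
      ((h.coprime_zpowers le_rfl).coprime_dvd_left ?_)
    rw [show B = (zpowers x₀).map mk from (MonoidHom.map_zpowers mk x₀).symm]
    exact (Subgroup.card_map_dvd _ mk).trans (card_dvd_of_le (zpowers_le.2 (pow_mem (mem_zpowers x) _)))
  have h3 := Coprime.commutator_eq_bot_of_commutator_commutator hBn hcop
    (Or.inr inferInstance) (le_bot_iff.1 ((commutator_mono h2 le_rfl).trans hBF.le))
  intro g hg
  refine (QuotientGroup.eq_one_iff _).1 ?_
  show mk ⁅g, x₀⁆ = 1
  rw [map_commutatorElement]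
  exact mem_bot.1 (h3 ▸ commutator_mem_commutator (mem_map_of_mem mk hg) (mem_zpowers _))

end FpfTop

end CfsgLib.FittingHeight
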