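import Cfsg.Agent.Lib.FittingHeight.WeightPlane
import Cfsg.Agent.Lib.TwoLength.TopPlanes
import Cfsg.Agent.Lib.TwoLength.PlaneNormal
import Cfsg.Agent.Lib.FixedFree.Cores
import Cfsg.Agent.Lib.StructC.PolySeq

/-!
# The top of an element of small degree acting on a group of odd order
-/

set_option autoImplicit false

namespace CfsgLib.FittingHeight

open Subgroup Module Polynomial CfsgLib.HallHigman CfsgLib.FixedFree CfsgLib.TwoLength
open scoped commutatorElement

universe u v w

variable {K : Type u} [Field K] [IsAlgClosed K] {V : Type v} [AddCommGroup V] [Module K V]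
  [FiniteDimensional K V] {X : Type w} [Group X] [Finite X]

/-- A group of odd order with an element of period `2 ^ n` and smaller degree acting on it. -/
structure FpfTop (ρ : Representation K X V) (M : Subgroup X) (x : X) (n : ℕ) : Prop where
  normal : M.Normal
  solvable : Group.IsSolvable M
  odd : (Nat.card M).Coprime 2
  two : (2 : K) ≠ 0
  core : ∀ q : ℕ, q.Prime → (q : K) = 0 → pCoreIn q M = ⊥
  inj : Function.Injective ρ
  one_le : 1 ≤ n
  pow : x ^ 2 ^ n = 1
  deg_lt : deg (ρ x) < 2 ^ n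

/-- The normal closure of the top. -/
def topClosure (x : X) (n : ℕ) : Subgroup X := normalClosure {x ^ 2 ^ (n - 1)}

/-- The part of the `q`-core moved by the top. -/
def core' (M : Subgroup X) (x : X) (n q : ℕ) : Subgroup X := ⁅pCoreIn q M, topClosure x n⁆

omit [Finite X] in
theorem top_mem (x : X) (n : ℕ) : x ^ 2 ^ (n - 1) ∈ topClosure x n :=
  subset_normalClosure (Set.mem_singleton _)

omit [Finite X] in
theorem topClosure_normal (x : X) (n : ℕ) : (topClosure x n).Normal := normalClosure_normal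

theorem core'_normal {M : Subgroup X} [M.Normal] {x : X} {n : ℕ} (q : ℕ) : (core' M x n q).Normal := by
  have := topClosure_normal x n
  rw [core']
  infer_instance

theorem core'_le {M : Subgroup X} [M.Normal] {x : X} {n : ℕ} (q : ℕ) : core' M x n q ≤ pCoreIn q M := by
  exact commutator_le_left _ _

theorem core'_isPGroup {M : Subgroup X} [M.Normal] {x : X} {n : ℕ} (q : ℕ) :
    IsPGroup q (core' M x n q) :=
  (pCoreIn_isPGroup q M).to_le (core'_le q)

theorem cast_orderOf_ne {q : ℕ} (hq : q.Prime) (hqK : (q : K) ≠ 0) {P : Subgroup X} (hP : IsPGroup q P)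
    {g : X} (hg : g ∈ P) : (orderOf g : K) ≠ 0 := by
  obtain ⟨k, hk⟩ := hP ⟨g, hg⟩
  obtain ⟨i, -, hi⟩ := (Nat.dvd_prime_pow hq).1
    (orderOf_dvd_of_pow_eq_one (congrArg Subtype.val hk : g ^ q ^ k = 1))
  rw [hi, Nat.cast_pow]
  exact pow_ne_zero _ hqK

variable {ρ : Representation K X V} {M : Subgroup X} [M.Normal] {x : X} {n : ℕ}

namespace FpfTop

variable (h : FpfTop ρ M x n)
include h

/-- The top centralises every abelian subgroup of odd prime power order normalised by `x`. -/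
theorem top_commute {q : ℕ} (hq : q.Prime) (hq2 : q ≠ 2) (hqK : (q : K) ≠ 0) {A : Subgroup X}
    (hA : IsPGroup q A) (hAc : ∀ a ∈ A, ∀ b ∈ A, a * b = b * a) (hxA : x ∈ normalizer (A : Set X))
    {a : X} (ha : a ∈ A) : x ^ 2 ^ (n - 1) * a = a * x ^ 2 ^ (n - 1) := by
  by_contra hne
  rcases boundHolds Nat.prime_two hq hq2.symm hqK _ ρ rfl A x n hA hxA
    (by rw [h.pow, map_one]) h.one_le ⟨a, ha, fun e' => hne (h.inj e')⟩ with
    h1 | ⟨_, _, -, -, -, -, -, a₁, ha₁, b₁, hb₁, hne'⟩
  · exact absurd h1 (not_le.2 h.deg_lt)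
  · exact hne' (congrArg ρ (hAc a₁ ha₁ b₁ hb₁))

/-- The conjugates of the top centralise every normal abelian subgroup of odd prime power order. -/
theorem top_le_centralizer {q : ℕ} (hq : q.Prime) (hq2 : q ≠ 2) (hqK : (q : K) ≠ 0) {A : Subgroup X} [A.Normal]
    (hA : IsPGroup q A) (hAc : ∀ a ∈ A, ∀ b ∈ A, a * b = b * a) :
    topClosure x n ≤ centralizer (A : Set X) := by
  refine normalClosure_le_normal (Set.singleton_subset_iff.2 ?_)
  exact mem_centralizer_iff.2 fun a ha =>
    (h.top_commute hq hq2 hqK hA hAc (by rw [normalizer_eq_top]; exact mem_top x) ha).symm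

/-- The moved core centralises every normal abelian subgroup of the core. -/
theorem core'_le_centralizer {q : ℕ} (hq : q.Prime) (hq2 : q ≠ 2) (hqK : (q : K) ≠ 0) {A : Subgroup X} [A.Normal]
    (hA : IsPGroup q A) (hAc : ∀ a ∈ A, ∀ b ∈ A, a * b = b * a) :
    core' M x n q ≤ centralizer (A : Set X) := by
  refine commutator_le.2 fun g _ y hy => mem_centralizer_iff.2 fun a ha => ?_
  have hy' := mem_centralizer_iff.1 (h.top_le_centralizer hq hq2 hqK hA hAc hy)
  have hb : g⁻¹ * a * g ∈ A := by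
    have := (inferInstance : A.Normal).conj_mem a ha g⁻¹
    rwa [inv_inv] at this
  have e1 : y * a * y⁻¹ = a := by rw [← hy' a ha, mul_inv_cancel_right]
  have e2 : y⁻¹ * a * y = a := by rw [mul_assoc, hy' a ha, inv_mul_cancel_left]
  have e3 : y * (g⁻¹ * a * g) * y⁻¹ = g⁻¹ * a * g := by rw [← hy' _ hb, mul_inv_cancel_right]
  have key : ⁅g, y⁆ * a * ⁅g, y⁆⁻¹ = a := by
    rw [commutatorElement_def]
    calc g * y * g⁻¹ * y⁻¹ * a * (g * y * g⁻¹ * y⁻¹)⁻¹
        = g * (y * (g⁻¹ * (y⁻¹ * a * y) * g) * y⁻¹) * g⁻¹ := by group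
      _ = a := by rw [e2, e3]; group
  exact (mul_inv_eq_iff_eq_mul.1 key).symm

theorem core'_comm {q : ℕ} (hq : q.Prime) (hq2 : q ≠ 2) (hqK : (q : K) ≠ 0) :
    ∀ a ∈ core' M x n q, ∀ b ∈ core' M x n q, ⁅a, b⁆ ∈ centerIn (core' M x n q) := by
  classical
  have := Fact.mk hq
  set D := core' M x n q
  have hDn : D.Normal := core'_normal q
  have hnil : Group.IsNilpotent D := (core'_isPGroup (x := x) (n := n) q).isNilpotent
  -- the lower central series inside `X`
  set L : ℕ → Subgroup X := fun j => D.lowerCentralSeries j with hL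
  have hLle : ∀ j, L j ≤ D := fun j => D.lowerCentralSeries_antitone (Nat.zero_le j)
  have hL0 : L 0 = D := rfl
  have hLs : ∀ j, L (j + 1) = ⁅L j, D⁆ := fun j => rfl
  have hLn : ∀ j, (L j).Normal := by
    intro j
    induction j with
    | zero => rw [hL0]; exact hDn
    | succ j ih => rw [hLs]; infer_instance
  have hmono : ∀ i j, i ≤ j → L j ≤ L i := fun i j hij => D.lowerCentralSeries_antitone hij
  -- abelian terms are central in `D`
  have hab : ∀ j, ⁅L j, L j⁆ = ⊥ → L (j + 1) = ⊥ := by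
    intro j hj
    have := hLn j
    have hc := h.core'_le_centralizer hq hq2 hqK (A := L j) ((core'_isPGroup q).to_le (hLle j))
      fun a ha b hb => commutatorElement_eq_one_iff_mul_comm.1 (mem_bot.1 (hj ▸ commutator_mem_commutator ha hb))
    rw [hLs, eq_bot_iff]
    exact commutator_le.2 fun a ha b hb => mem_bot.2
      (commutatorElement_eq_one_iff_mul_comm.2 (mem_centralizer_iff.1 (hc hb) a ha))
  have hex : ∃ c, L c = ⊥ := by
    exact D.isNilpotent_iff_lowerCentralSeries.1 hnil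
  have h2 : L 2 = ⊥ := by
    by_contra h2
    set c := Nat.find hex with hc
    have hc3 : 3 ≤ c := by
      by_contra hlt
      exact h2 (eq_bot_iff.2 ((hmono c 2 (by omega)).trans (Nat.find_spec hex).le))
    refine Nat.find_min hex (show c - 1 < c by omega) ?_
    obtain ⟨d, hd⟩ : ∃ d, c - 2 = d := ⟨_, rfl⟩
    rw [show c - 1 = d + 1 by omega]
    refine hab d (eq_bot_iff.2 ?_)
    calc ⁅L d, L d⁆ ≤ L (2 * d + 1) := by
          simp only [hL, ← Subgroup.top_subtype_lowerCentralSeries D, ← Subgroup.map_commutator]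
          refine map_mono ?_
          have := StructC.commutator_lowerCentralSeries_le (G := D) d d
          rwa [two_mul]
      _ ≤ L c := hmono _ _ (by omega)
      _ = ⊥ := Nat.find_spec hex
  intro a ha b hb
  refine mem_centerIn.2 ⟨mul_mem (mul_mem (mul_mem ha hb) (inv_mem ha)) (inv_mem hb), fun d hd => ?_⟩
  refine (commutatorElement_eq_one_iff_mul_comm.1 (mem_bot.1 (h2 ▸ ?_ : ⁅⁅a, b⁆, d⁆ ∈ (⊥ : Subgroup X)))).symm
  rw [hLs 1, hLs 0, hL0]
  exact commutator_mem_commutator (commutator_mem_commutator ha hb) hd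

theorem core'_pow {q : ℕ} (hq : q.Prime) (hq2 : q ≠ 2) (hqK : (q : K) ≠ 0) :
    ∀ a ∈ core' M x n q, a ^ q ∈ centerIn (core' M x n q) := by
  classical
  have := Fact.mk hq
  set D := core' M x n q
  have hDn : D.Normal := core'_normal q
  have hDq : IsPGroup q D := core'_isPGroup q
  have hcom := h.core'_comm hq hq2 hqK
  have hcomm : ∀ a ∈ D, ∀ b ∈ D, ∀ d ∈ D, Commute d ⁅a, b⁆ := fun a ha b hb d hd =>
    (mem_centerIn.1 (hcom a ha b hb)).2 d hd
  have hex : ∃ m, ∀ a ∈ D, ∀ b ∈ D, ⁅a, b⁆ ^ q ^ m = 1 := by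
    obtain ⟨m, hm⟩ := hDq.exists_card_eq
    refine ⟨m, fun a ha b hb => ?_⟩
    have h1 : ⁅a, b⁆ ∈ D := centerIn_le D (hcom a ha b hb)
    have h2 := pow_card_eq_one' (x := (⟨_, h1⟩ : D))
    rw [hm] at h2
    exact congrArg Subtype.val h2
  set m := Nat.find hex with hm
  have hm1 : m ≤ 1 := by
    by_contra hm1
    obtain ⟨k, hk⟩ : ∃ k, (m + 1) / 2 = k := ⟨_, rfl⟩
    refine Nat.find_min hex (show k < m by omega) fun a ha b hb => ?_
    set S : Set X := {y | ∃ c ∈ D, y = c ^ q ^ k}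
    set A := closure S
    have hAD : A ≤ D := (closure_le D).2 fun y ⟨c, hc, e⟩ => e ▸ pow_mem hc _
    have hS : ∀ y ∈ S, ∀ y' ∈ S, y * y' = y' * y := by
      rintro _ ⟨c, hc, rfl⟩ _ ⟨c', hc', rfl⟩
      refine commutatorElement_eq_one_iff_mul_comm.1 ?_
      rw [commutator_pow_left (hcomm c hc _ (pow_mem hc' _) c hc) (q ^ k),
        commutator_pow_right (hcomm c hc c' hc' c' hc') (q ^ k), ← pow_mul, ← pow_add]
      have := Nat.find_spec hex c hc c' hc'
      rw [← hm] at this
      rw [show k + k = m + (k + k - m) by omega, pow_add, pow_mul, this, one_pow]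
    have hSA : A ≤ centralizer (A : Set X) := by
      have h1 : A ≤ centralizer S := (closure_le _).2 fun y hy => mem_centralizer_iff.2 fun y' hy' => hS y' hy' y hy
      rwa [← centralizer_closure] at h1
    have hAn : A.Normal := ⟨fun y hy g => by
      have h1 : A.map (MulAut.conj g).toMonoidHom ≤ A := by
        rw [MonoidHom.map_closure]
        refine closure_mono ?_
        rintro _ ⟨_, ⟨c, hc, rfl⟩, rfl⟩
        exact ⟨g * c * g⁻¹, hDn.conj_mem c hc g, by simp [conj_pow]⟩
      simpa using h1 (mem_map_of_mem _ hy)⟩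
    have hc := h.core'_le_centralizer hq hq2 hqK (A := A) (hDq.to_le hAD)
      fun y hy y' hy' => mem_centralizer_iff.1 (hSA hy') y hy
    have h1 : Commute (a ^ q ^ k) b := mem_centralizer_iff.1 (hc hb) _ (subset_closure ⟨a, ha, rfl⟩)
    rw [← commutator_pow_left (hcomm a ha b hb a ha) (q ^ k)]
    exact commutatorElement_eq_one_iff_mul_comm.2 h1.eq
  intro a ha
  refine mem_centerIn.2 ⟨pow_mem ha _, fun d hd => Commute.symm ?_⟩
  refine commutatorElement_eq_one_iff_mul_comm.1 ?_
  rw [commutator_pow_left (hcomm a ha d hd a ha) q]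
  have h1 := Nat.find_spec hex a ha d hd
  rw [← hm] at h1
  rw [← pow_one q, show 1 = m + (1 - m) by omega, pow_add, pow_mul, h1, one_pow]

theorem core'_weightCtx {q : ℕ} (hq : q.Prime) (hq2 : q ≠ 2) (hqK : (q : K) ≠ 0) {χ : X → K} {v : V} (hv : v ≠ 0)
    (hvχ : v ∈ charSpace ρ (centerIn (core' M x n q)) χ) : WeightCtx ρ (core' M x n q) q χ :=
  ⟨core'_normal q, core'_isPGroup q, h.core'_comm hq hq2 hqK, h.core'_pow hq hq2 hqK, v, hv, hvχ⟩

theorem top_commute_center {q : ℕ} (hq : q.Prime) (hq2 : q ≠ 2) (hqK : (q : K) ≠ 0) {u z : X} (hu : u ∈ topClosure x n)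
    (hz : z ∈ centerIn (core' M x n q)) : z * u = u * z := by
  have := core'_normal (M := M) (x := x) (n := n) q
  exact mem_centralizer_iff.1 (h.top_le_centralizer hq hq2 hqK
    ((core'_isPGroup q).to_le (centerIn_le _)) (fun a ha b hb => ((mem_centerIn.1 hb).2 a
      (centerIn_le _ ha)).eq) hu) z hz

theorem top_le_stab {q : ℕ} (hq : q.Prime) (hq2 : q ≠ 2) (hqK : (q : K) ≠ 0) (χ : X → K) :
    topClosure x n ≤ charStabilizer (centerIn (core' M x n q)) χ := by
  have := core'_normal (M := M) (x := x) (n := n) q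
  intro u hu
  refine ⟨by rw [normalizer_eq_top]; trivial, fun z hz => ?_⟩
  rw [mul_assoc, h.top_commute_center hq hq2 hqK hu hz, inv_mul_cancel_left]

/-- An element of the tops of order prime to `q` acting trivially at every weight centralises the
`q`-core. -/
theorem centralizes_core {q : ℕ} (hq : q.Prime) (hq2 : q ≠ 2) (hqK : (q : K) ≠ 0) {u : X} (hu : u ∈ topClosure x n)
    (hcop : (orderOf u).Coprime q)
    (hact : ∀ (χ : X → K) (hw : WeightCtx ρ (core' M x n q) q χ),
      hw.act ⟨u, h.top_le_stab hq hq2 hqK χ hu⟩ = 1) :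
    ∀ g ∈ pCoreIn q M, g * u = u * g := by
  have := Fact.mk hq
  set D := core' M x n q
  have hDn : D.Normal := core'_normal q
  have hDq : IsPGroup q D := core'_isPGroup q
  have hord : ∀ {w : X}, w ∈ D → w ^ orderOf u = 1 → w = 1 := by
    intro w hw hwk
    obtain ⟨k, hk⟩ := hDq ⟨w, hw⟩
    exact orderOf_eq_one_iff.1 (Nat.eq_one_of_dvd_coprimes (hcop.pow_right k)
      (orderOf_dvd_of_pow_eq_one hwk) (orderOf_dvd_of_pow_eq_one (congrArg Subtype.val hk)))
  have hD : ∀ d ∈ D, d * u = u * d := by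
    intro d hd
    set c := (u * d * u⁻¹)⁻¹ * d with hc
    have hcD : c ∈ D := mul_mem (inv_mem (hDn.conj_mem d hd u)) hd
    have hcZ : c ∈ centerIn D := by
      refine mem_centerIn.2 ⟨hcD, fun b hb => Commute.symm (commutatorElement_eq_one_iff_mul_comm.1 ?_)⟩
      have hzZ := h.core'_comm hq hq2 hqK c hcD b hb
      refine h.inj (LinearMap.ext fun w => ?_)
      rw [map_one, Module.End.one_apply]
      refine fix_of_weights ρ (centerIn D) (M := ⊤) (fun _ _ _ _ => trivial)
        (fun a ha b hb w _ => by rw [((mem_centerIn.1 hb).2 a (centerIn_le D ha)).eq]) hzZ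
        (cast_orderOf_ne hq hqK hDq (centerIn_le D hzZ)) (fun v χ _ hv0 hvχ => ?_) w trivial
      have hw := h.core'_weightCtx hq hq2 hqK hv0 hvχ
      have h1 : hw.proj (hw.conjD u ⟨d, hd⟩) = hw.proj ⟨d, hd⟩ := by
        rw [← hw.act_proj ⟨u, h.top_le_stab hq hq2 hqK χ hu⟩, hact χ hw, MulAut.one_apply]
      have h2 := hw.mem_orth.1 (hw.proj_eq.1 h1) ⟨b, hb⟩
      rw [hvχ _ hzZ]
      have h3 : ((⟨c, hcD⟩ : D) : X) = ((((hw.conjD u ⟨d, hd⟩)⁻¹ * ⟨d, hd⟩ : D)) : X) := by
        push_cast; rw [hw.conjD_apply]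
      have h4 : χ ⁅c, b⁆ = 1 := by
        have h5 := congrArg Units.val h2
        rw [WeightCtx.beta, hw.chiHom_apply, Units.val_one] at h5
        rw [← h5]
        exact congrArg χ (congrArg (fun t : X => ⁅t, b⁆) h3)
      rw [h4, one_smul]
    have hconj : ∀ k : ℕ, u ^ k * d * (u ^ k)⁻¹ = d * c⁻¹ ^ k := by
      intro k
      induction k with
      | zero => simp
      | succ k ih =>
        have hcu : Commute u c⁻¹ := Commute.inv_right (h.top_commute_center hq hq2 hqK hu hcZ).symm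
        rw [pow_succ', show u * u ^ k * d * (u * u ^ k)⁻¹ = u * (u ^ k * d * (u ^ k)⁻¹) * u⁻¹ by group,
          ih, show u * (d * c⁻¹ ^ k) * u⁻¹ = (u * d * u⁻¹) * (u * c⁻¹ ^ k * u⁻¹) by group,
          (hcu.pow_right k).eq, mul_inv_cancel_right, pow_succ', ← mul_assoc d c⁻¹]
        congr 1
        rw [hc]; group
    have h1 := hconj (orderOf u)
    rw [pow_orderOf_eq_one, one_mul, inv_one, mul_one, left_eq_mul] at h1
    have hc1 : c = 1 := inv_eq_one.1 (hord (inv_mem hcD) h1)
    rw [hc, inv_mul_eq_one] at hc1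
    conv_lhs => rw [← hc1]
    rw [inv_mul_cancel_right]
  intro g hg
  set w := ⁅g, u⁆ with hw
  have hwD : w ∈ D := commutator_mem_commutator hg hu
  have hconj : ∀ k : ℕ, g * u ^ k * g⁻¹ = w ^ k * u ^ k := by
    intro k
    have hwu : Commute w u := hD w hwD
    rw [← hwu.mul_pow, hw, commutatorElement_def, inv_mul_cancel_right, conj_pow]
  have h1 := hconj (orderOf u)
  rw [pow_orderOf_eq_one, mul_one, mul_inv_cancel, mul_one] at h1
  exact commutatorElement_eq_one_iff_mul_comm.1 (hord hwD h1.symm)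

set_option maxHeartbeats 1000000 in
/-- An element whose top moves a weight space has a power acting there as a plane element. -/
theorem exists_plane {q : ℕ} [Fact q.Prime] (hq2 : q ≠ 2) (hqK : (q : K) ≠ 0) {χ : X → K}
    (hw : WeightCtx ρ (core' M x n q) q χ)
    (hy : x ^ 2 ^ (n - 1) ∈ charStabilizer (centerIn (core' M x n q)) χ)
    (hmov : hw.act ⟨_, hy⟩ ≠ 1) :
    ∃ (j k : ℕ) (hz : x ^ 2 ^ j ∈ charStabilizer (centerIn (core' M x n q)) χ),
      IsPlane hw.pairing k q (hw.act ⟨_, hz⟩) ∧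
        IsPlane.invol (hw.act ⟨_, hz⟩) k = hw.act ⟨_, hy⟩ := by
  classical
  set Z := centerIn (core' M x n q)
  set St := charStabilizer Z χ
  have hex : ∃ o, 0 < o ∧ x ^ o ∈ St := ⟨_, pow_pos two_pos _, hy⟩
  set o := Nat.find hex
  obtain ⟨ho, hoS⟩ := Nat.find_spec hex
  have hdvd : ∀ i, x ^ i ∈ St → o ∣ i := by
    intro i hi
    refine Nat.dvd_of_mod_eq_zero (Nat.eq_zero_of_not_pos fun hpos => ?_)
    refine Nat.find_min hex (Nat.mod_lt i ho) ⟨hpos, ?_⟩
    have h1 : x ^ (o * (i / o)) ∈ St := by rw [pow_mul]; exact pow_mem hoS _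
    refine (mul_mem_cancel_left h1).1 ?_
    rw [← pow_add, Nat.div_add_mod]
    exact hi
  obtain ⟨j, hje, hoj⟩ := (Nat.dvd_prime_pow Nat.prime_two).1 (hdvd _ hy)
  refine ⟨j, n - j, hoj ▸ hoS, ?_⟩
  set z : St := ⟨x ^ 2 ^ j, hoj ▸ hoS⟩ with hz
  have hje' : j < n := by have := h.one_le; omega
  have hzy : z ^ 2 ^ (n - j - 1) = ⟨_, hy⟩ := Subtype.ext (by
    rw [SubgroupClass.coe_pow, hz]
    show (x ^ 2 ^ j) ^ 2 ^ (n - j - 1) = x ^ 2 ^ (n - 1)
    rw [← pow_mul, ← pow_add, show j + (n - j - 1) = n - 1 by omega])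
  have hzn : z ^ 2 ^ (n - j) = 1 := Subtype.ext (by
    rw [SubgroupClass.coe_pow, OneMemClass.coe_one]
    show (x ^ 2 ^ j) ^ 2 ^ (n - j) = 1
    rw [← pow_mul, ← pow_add, show j + (n - j) = n by omega, h.pow])
  have := hw.nontrivial_charSpace
  have hdeg : deg (weightRep ρ Z χ z) < 2 ^ (n - j) := by
    have := (core'_normal (M := M) (x := x) (n := n) q)
    have hW : ∀ w ∈ charSpace ρ Z χ, (ρ x ^ o) w ∈ charSpace ρ Z χ := fun w hwm => by
      rw [← map_pow]; exact charSpace_map_mem hoS hwm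
    have hmul := mul_deg_restrict_le hW (charSpace_translates ρ Z (by rw [normalizer_eq_top]; trivial) χ
      (fun i hi hio hm => Nat.find_min hex hio ⟨hi, hm⟩) le_rfl)
    have e1 : weightRep ρ Z χ z = (ρ x ^ o).restrict hW := LinearMap.ext fun w => Subtype.ext (by
      rw [weightRep_apply, LinearMap.coe_restrict_apply, ← map_pow, show (z : X) = x ^ 2 ^ j from rfl, ← hoj])
    rw [e1]
    have h2 := hmul.trans_lt h.deg_lt
    rw [show n = j + (n - j) by omega, pow_add, ← hoj] at h2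
    exact Nat.lt_of_mul_lt_mul_left h2
  have hplane := isPlane_of_ne hw hq2 hqK h.two (n := n - j) (by omega) hzn hdeg (by rw [hzy]; exact hmov)
  exact ⟨hplane, by rw [IsPlane.invol, ← map_pow, hzy]⟩

end FpfTop

end CfsgLib.FittingHeight
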