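import Cfsg.Agent.Lib.TwoLength.WeightIsPlane
import Mathlib.RingTheory.RootsOfUnity.AlgebraicallyClosed
import Mathlib.Algebra.Field.GeomSum

/-!
# An element of degree below its order acts as a plane element: semisimple case
-/

set_option autoImplicit false

namespace CfsgLib.FittingHeight

open Subgroup Module Polynomial CfsgLib.HallHigman CfsgLib.FixedFree CfsgLib.FixedSpace CfsgLib.TwoLength
open scoped commutatorElement

universe u v w

variable {K : Type u} [Field K]

/-- An element of finite period twisting `c` by `η` and of degree one below its period both on `W`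
and on the range of `c` forces `η = 1`. -/
theorem eq_one_of_intertwine {W : Type v} [AddCommGroup W] [Module K W] [FiniteDimensional K W]
    {T c : Module.End K W} {N : ℕ} (hN : 2 ≤ N) (hT : T ^ N = 1) (hdeg : deg T < N) {η : K}
    (hη : η ^ N = 1) (hc : T * c = η • (c * T)) (hinv : ∀ w ∈ LinearMap.range c, T w ∈ LinearMap.range c)
    (hsub : deg (T.restrict hinv) + 1 = N) : η = 1 := by
  set T1 := T.restrict hinv
  set m := minpoly K T with hm
  set m1 := minpoly K T1 with hm1
  have hmm : m.Monic := minpoly.monic (Algebra.IsIntegral.isIntegral T)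
  have hm1m : m1.Monic := minpoly.monic (Algebra.IsIntegral.isIntegral T1)
  have hd1 : m1.natDegree + 1 = N := hsub
  have hd : m.natDegree < N := hdeg
  have hdvd1 : m1 ∣ m := minpoly.dvd K T1 (LinearMap.ext fun w => Subtype.ext (by
    rw [aeval_restrict_apply, minpoly.aeval]; rfl))
  have hle := natDegree_le_of_dvd hdvd1 hmm.ne_zero
  have hmeq : m1 = m := (eq_of_monic_of_dvd_of_natDegree_le hm1m hmm hdvd1 (by omega)).symm
  have hdm : m.natDegree + 1 = N := by rw [← hmeq]; exact hd1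
  obtain ⟨r, hr⟩ : m ∣ X ^ N - C (1 : K) := minpoly.dvd K T (by
    rw [map_sub, map_pow, aeval_X, hT, aeval_C, map_one, sub_self])
  have hrd : r.natDegree = 1 ∧ r.Monic := by
    have h1 : (X ^ N - C (1 : K)).Monic := monic_X_pow_sub_C 1 (by omega)
    have h2 : r.Monic := hmm.of_mul_monic_left (hr ▸ h1)
    have h3 := congrArg natDegree hr
    rw [natDegree_X_pow_sub_C, hmm.natDegree_mul h2] at h3
    exact ⟨by omega, h2⟩
  obtain ⟨μ, hμ⟩ : ∃ μ, r = X - C μ := ⟨-r.coeff 0, by
    rw [map_neg, sub_neg_eq_add]; exact hrd.2.eq_X_add_C hrd.1⟩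
  have hμ0 : μ ≠ 0 := fun e => by
    have h1 := congrArg (eval 0) hr
    rw [hμ, e, eval_mul, eval_sub, eval_sub, eval_pow, eval_X, eval_C, eval_C, zero_pow (by omega),
      sub_self, mul_zero, zero_sub, neg_eq_zero] at h1
    exact one_ne_zero h1
  have hη0 : η ≠ 0 := fun e => by rw [e, zero_pow (by omega)] at hη; exact zero_ne_one hη
  -- the twisted polynomial
  set m' := m.comp (C η⁻¹ * X) with hm'
  have hpow : ∀ k : ℕ, T ^ k * c = η ^ k • (c * T ^ k) := fun k => by
    induction k with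
    | zero => simp
    | succ k ih =>
      rw [pow_succ', mul_assoc, ih, mul_smul_comm, ← mul_assoc, hc, smul_mul_assoc, smul_smul, mul_assoc,
        ← pow_succ', ← pow_succ]
  have htw : ∀ P : K[X], aeval T (P.comp (C η⁻¹ * X)) * c = c * aeval T P := fun P => by
    induction P using Polynomial.induction_on' with
    | add a b ha hb => rw [add_comp, map_add, map_add, add_mul, mul_add, ha, hb]
    | monomial k a =>
      rw [monomial_comp, mul_pow, ← C_pow, ← mul_assoc, ← C_mul, map_mul, aeval_C, map_pow, aeval_X,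
        aeval_monomial, Algebra.algebraMap_eq_smul_one, Algebra.algebraMap_eq_smul_one, smul_one_mul,
        smul_one_mul, smul_mul_assoc, hpow, smul_smul, mul_smul_comm, mul_assoc, ← mul_pow,
        inv_mul_cancel₀ hη0, one_pow, mul_one]
  have hdvd : m1 ∣ m' := minpoly.dvd K T1 (LinearMap.ext (by
    rintro ⟨_, v, rfl⟩
    refine Subtype.ext ?_
    rw [aeval_restrict_apply]
    show (aeval T m') (c v) = 0
    rw [← Module.End.mul_apply, htw, hm, minpoly.aeval, mul_zero, LinearMap.zero_apply]))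
  obtain ⟨s, hs⟩ := hdvd
  rw [hmeq] at hs
  have hd' : m'.natDegree = m.natDegree := by
    rw [hm', natDegree_comp, natDegree_C_mul_X _ (inv_ne_zero hη0), mul_one]
  obtain ⟨a, rfl⟩ : ∃ a, s = C a := by
    refine ⟨s.coeff 0, eq_C_of_natDegree_le_zero ?_⟩
    by_cases hs0 : s = 0
    · rw [hs0, natDegree_zero]
    rw [hs, natDegree_mul hmm.ne_zero hs0] at hd'
    omega
  have h2 : X ^ N - C 1 = m * (C (a * η⁻¹) * (X - C (η * μ))) := by
    have h := congrArg (fun P : K[X] => P.comp (C η⁻¹ * X)) hr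
    simp only [sub_comp, pow_comp, X_comp, C_comp, mul_comp, hμ] at h
    rw [mul_pow, ← C_pow, inv_pow, hη, inv_one, map_one, one_mul] at h
    rw [map_one, h, ← hm', hs, mul_assoc]
    congr 1
    rw [map_mul, map_mul, mul_assoc, mul_sub, mul_sub, ← mul_assoc (C η⁻¹) (C η), ← C_mul (a := η⁻¹),
      inv_mul_cancel₀ hη0, map_one, one_mul]
    ring
  rw [hr, hμ] at h2
  have h3 := mul_left_cancel₀ hmm.ne_zero h2
  have h4 : a * η⁻¹ = 1 := by
    have := congrArg leadingCoeff h3
    rw [leadingCoeff_X_sub_C, leadingCoeff_mul, leadingCoeff_C, leadingCoeff_X_sub_C, mul_one] at this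
    exact this.symm
  rw [h4, map_one, one_mul, sub_right_inj, C_inj] at h3
  exact (mul_eq_right₀ hμ0).1 h3.symm

variable [IsAlgClosed K] {V : Type v} [AddCommGroup V] [Module K V] [FiniteDimensional K V] {X : Type w}
  [Group X] [Finite X] {ρ : Representation K X V} {D : Subgroup X} {q : ℕ} [hq : Fact q.Prime] {χ : X → K}

set_option maxHeartbeats 1000000 in
/-- An element of degree below its order whose involution moves the space gives a plane element, in
characteristic other than `2` and `q`. -/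
theorem isPlane_of_ne (h : WeightCtx ρ D q χ) (hq2 : q ≠ 2) (hqK : (q : K) ≠ 0) (h2K : (2 : K) ≠ 0)
    {n : ℕ} (hn : 1 ≤ n)
    {g : charStabilizer (centerIn D) χ} (hgn : g ^ 2 ^ n = 1)
    (hdeg : deg (weightRep ρ (centerIn D) χ g) < 2 ^ n) (hmov : h.act (g ^ 2 ^ (n - 1)) ≠ 1) :
    IsPlane h.pairing n q (h.act g) := by
  classical
  have := h.normal
  have := h.nontrivial_charSpace
  set σ := weightRep ρ (centerIn D) χ with hσdef
  set gy := g ^ 2 ^ (n - 1) with hgy
  have hgy2 : gy ^ 2 = 1 := by rw [hgy, ← pow_mul, ← pow_succ, Nat.sub_add_cancel hn, hgn]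
  have hJle : h.inverted (gy : X) ≤ charStabilizer (centerIn D) χ := (h.inverted_le _).trans h.le_stab
  obtain ⟨hqn, -, hcard⟩ := h.deg_and_card_of_ne hn hq2 hqK hgn hJle g.2 σ
    (fun z hz => h.weightRep_center _ hz) hdeg hmov
  have hn2 : 2 ≤ n := by
    by_contra hn2
    obtain rfl : n = 1 := by omega
    have := hq.out.two_le
    omega
  have hodd := fun s => odd_orderOf hq2 h.space_pow s
  refine ⟨hn2, hqn, h.space_pow, h.act_preserves g, by rw [← map_pow, hgn, map_one],
    by rw [← map_pow]; exact hcard, ?_⟩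
  intro s hs
  rw [← map_pow, ← hgy] at hs
  obtain ⟨d, rfl⟩ := h.proj_surjective s
  rw [mem_fixedSub]
  by_contra hne
  set T := σ g
  set T' := σ g⁻¹
  have hTT : T * T' = 1 := by rw [← map_mul, mul_inv_cancel, map_one]
  have hT'T : T' * T = 1 := by rw [← map_mul, inv_mul_cancel, map_one]
  set U := σ ⟨d, h.le_stab d.2⟩ with hU
  have hTn : T ^ 2 ^ n = 1 := by rw [← map_pow, hgn, map_one]
  -- the commutant of the inverted part
  let Cm : Set (Module.End K (charSpace ρ (centerIn D) χ)) :=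
    {c | ∀ j : charStabilizer (centerIn D) χ, (j : X) ∈ h.inverted (gy : X) → c * σ j = σ j * c}
  have hbeta : ∀ a b : D, σ ⁅(⟨a, h.le_stab a.2⟩ : charStabilizer (centerIn D) χ), ⟨b, h.le_stab b.2⟩⁆ =
      (h.beta a b : K) • (1 : Module.End K _) := fun a b => h.weightRep_center _ (h.comm _ a.2 _ b.2)
  have hUC : U ∈ Cm := by
    intro j hj
    have h1 : h.pairing.toFun (h.proj d) (h.proj ⟨j, h.inverted_le _ hj⟩) = 1 :=
      pairing_fixed_disp (h.act_preserves gy) hs (h.proj_inverted hgy2 hq2 hj)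
    rw [h.pairing_proj] at h1
    have h2 := hbeta d ⟨j, h.inverted_le _ hj⟩
    rw [h1, Units.val_one, one_smul] at h2
    rw [hU, ← map_mul, show (⟨d, h.le_stab d.2⟩ : charStabilizer (centerIn D) χ) * j =
      ⁅(⟨d, h.le_stab d.2⟩ : charStabilizer (centerIn D) χ), j⁆ * (j * ⟨d, h.le_stab d.2⟩) by
        rw [commutatorElement_def]; group, map_mul, map_mul]
    have h2' : σ ⁅(⟨d, h.le_stab d.2⟩ : charStabilizer (centerIn D) χ), j⁆ = 1 := h2
    rw [h2', one_mul]
  have hgyc : (g : X) * gy = gy * g := by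
    rw [hgy, SubgroupClass.coe_pow]; exact (Commute.self_pow _ _).eq
  have hconjC : ∀ c ∈ Cm, T * c * T' ∈ Cm := by
    intro c hc j hj
    have hj' : ((g⁻¹ * j * g : charStabilizer (centerIn D) χ) : X) ∈ h.inverted (gy : X) :=
      inv_conj_mem_of_mem_normalizer (h.mem_normalizer_inverted hgyc) hj
    have e := hc _ hj'
    rw [map_mul, map_mul] at e
    have e1 : T' * σ j = T' * σ j * T * T' := by rw [mul_assoc _ T T', hTT, mul_one]
    have e2 : T * (T' * σ j * T * c) = σ j * T * c := by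
      simp only [← mul_assoc, hTT, one_mul]
    calc T * c * T' * σ j = T * (c * (T' * σ j * T)) * T' := by
          simp only [mul_assoc, hTT, mul_one]
      _ = T * (T' * σ j * T * c) * T' := by rw [e]
      _ = σ j * (T * c * T') := by rw [e2]; simp only [mul_assoc]
  have hUne : T * U * T' ≠ U := by
    intro e
    refine hne ?_
    rw [h.act_proj, h.proj_eq, h.mem_orth]
    intro b
    refine Units.ext (smul_left_injective K (one_ne_zero : (1 : Module.End K (charSpace ρ (centerIn D) χ)) ≠ 0)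
      (?_ : (_ : K) • (1 : Module.End K (charSpace ρ (centerIn D) χ)) = (1 : K) • 1))
    have he : σ ⟨_, h.le_stab ((h.conjD g d)⁻¹ * d).2⟩ = 1 := by
      have e3 : (⟨_, h.le_stab ((h.conjD g d)⁻¹ * d).2⟩ : charStabilizer (centerIn D) χ) =
          g * ⟨d, h.le_stab d.2⟩⁻¹ * g⁻¹ * ⟨d, h.le_stab d.2⟩ := Subtype.ext (by
        push_cast; rw [h.conjD_apply]; group)
      rw [e3, map_mul, map_mul, map_mul, ← hU]
      have hUU : σ ⟨d, h.le_stab d.2⟩⁻¹ * U = 1 := by rw [hU, ← map_mul, inv_mul_cancel, map_one]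
      calc T * σ ⟨d, h.le_stab d.2⟩⁻¹ * T' * U
          = T * σ ⟨d, h.le_stab d.2⟩⁻¹ * T' * (T * U * T') := by rw [e]
        _ = 1 := by
          simp only [mul_assoc]
          rw [← mul_assoc T' T, hT'T, one_mul, ← mul_assoc (σ _) U, hUU, one_mul, hTT]
    have he' : σ ⟨_, h.le_stab ((h.conjD g d)⁻¹ * d).2⟩⁻¹ = 1 := by
      have h1 := map_one σ
      rw [← mul_inv_cancel ⟨_, h.le_stab ((h.conjD g d)⁻¹ * d).2⟩, map_mul, he, one_mul] at h1
      exact h1
    rw [← hbeta, one_smul, commutatorElement_def, map_mul, map_mul, map_mul, he, he', one_mul, mul_one,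
      ← map_mul, mul_inv_cancel, map_one]
  -- a component twisted by a nontrivial root of unity
  let L : Module.End K (Module.End K (charSpace ρ (centerIn D) χ)) := LinearMap.mulLeftRight K (T, T')
  have hLap : ∀ c, L c = T * c * T' := fun c => rfl
  set N := 2 ^ n with hN
  have hNK : ((N : ℕ) : K) ≠ 0 := by rw [hN, Nat.cast_pow]; exact pow_ne_zero _ (by exact_mod_cast h2K)
  have : NeZero ((N : ℕ) : K) := ⟨hNK⟩
  have hN0 : N ≠ 0 := by rw [hN]; exact pow_ne_zero _ two_ne_zero
  have : NeZero N := ⟨hN0⟩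
  obtain ⟨ω, hω⟩ := HasEnoughRootsOfUnity.exists_primitiveRoot K N
  have hLk : ∀ (k : ℕ) c, (L ^ k) c = T ^ k * c * T' ^ k := by
    intro k c
    induction k with
    | zero => simp
    | succ k ih =>
      rw [pow_succ' L, Module.End.mul_apply, ih, hLap, pow_succ' T, pow_succ T']
      simp only [mul_assoc]
  have hT'n : T' ^ N = 1 := by rw [← map_pow, inv_pow, hgn, inv_one, map_one]
  have hLN : (L ^ N) U = U := by rw [hLk, hTn, hT'n, one_mul, mul_one]
  let cp : ℕ → Module.End K (charSpace ρ (centerIn D) χ) := fun i =>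
    ∑ k ∈ Finset.range N, (ω ^ i) ^ k • (L ^ k) U
  have hsum : ∑ i ∈ Finset.range N, cp i = (N : K) • U := by
    show ∑ i ∈ Finset.range N, ∑ k ∈ Finset.range N, (ω ^ i) ^ k • (L ^ k) U = _
    rw [Finset.sum_comm]
    simp only [← Finset.sum_smul]
    rw [Finset.sum_eq_single 0]
    · simp
    · intro k hk hk0
      have h1 : ∀ i : ℕ, (ω ^ i) ^ k = (ω ^ k) ^ i := fun i => by rw [← pow_mul, ← pow_mul, mul_comm]
      simp only [h1]
      have hne1 : ω ^ k ≠ 1 := hω.pow_ne_one_of_pos_of_lt hk0 (Finset.mem_range.1 hk)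
      rw [geom_sum_eq hne1, ← pow_mul, mul_comm k, pow_mul, hω.pow_eq_one, one_pow, sub_self, zero_div,
        zero_smul]
    · intro h0
      exact absurd (Finset.mem_range.2 (Nat.pos_of_ne_zero hN0)) h0
  have hLcp : ∀ i, (ω ^ i) • L (cp i) = cp i := by
    intro i
    show (ω ^ i) • L (∑ k ∈ Finset.range N, (ω ^ i) ^ k • (L ^ k) U) = _
    rw [map_sum, Finset.smul_sum]
    have e : ∀ k, (ω ^ i) • L ((ω ^ i) ^ k • (L ^ k) U) = (ω ^ i) ^ (k + 1) • (L ^ (k + 1)) U := fun k => by
      rw [map_smul, smul_smul, ← pow_succ', pow_succ' L, Module.End.mul_apply]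
    simp only [e]
    have h0 : (ω ^ i) ^ N • (L ^ N) U = (ω ^ i) ^ 0 • (L ^ 0) U := by
      rw [hLN, ← pow_mul, mul_comm i, pow_mul, hω.pow_eq_one, one_pow, pow_zero, pow_zero,
        Module.End.one_apply]
    have h1 := Finset.sum_range_succ' (fun k => (ω ^ i) ^ k • (L ^ k) U) N
    rw [Finset.sum_range_succ, h0] at h1
    exact (add_right_cancel h1).symm
  obtain ⟨i, hi, hi0⟩ : ∃ i, cp i ≠ 0 ∧ ω ^ i ≠ 1 := by
    by_contra hall
    push Not at hall
    refine hUne ?_
    rw [← hLap]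
    have h1 : (N : K) • L U = (N : K) • U := by
      rw [← map_smul, ← hsum, map_sum]
      refine Finset.sum_congr rfl fun i _ => ?_
      by_cases hi : cp i = 0
      · rw [hi, map_zero]
      · have h2 := hLcp i
        rwa [hall i hi, one_smul] at h2
    exact smul_right_injective _ hNK h1
  set c := cp i with hcdef
  set η := (ω ^ i)⁻¹ with hηdef
  have hi' : ω ^ i ≠ 0 := pow_ne_zero _ (hω.ne_zero hN0)
  have hTc : T * c = η • (c * T) := by
    have h1 : η • c = T * c * T' := by
      conv_lhs => rw [show c = (ω ^ i) • L c from (hLcp i).symm]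
      rw [smul_smul, inv_mul_cancel₀ hi', one_smul, hLap]
    rw [← smul_mul_assoc, h1, mul_assoc (T * c), hT'T, mul_one]
  have hηN : η ^ N = 1 := by
    rw [hηdef, inv_pow, ← pow_mul, mul_comm i, pow_mul, hω.pow_eq_one, one_pow, inv_one]
  have hcC : c ∈ Cm := by
    have hLC : ∀ k, (L ^ k) U ∈ Cm := fun k => by
      induction k with
      | zero => exact hUC
      | succ k ih => rw [pow_succ', Module.End.mul_apply]; exact hconjC _ ih
    intro j hj
    rw [hcdef]
    show (∑ k ∈ Finset.range N, _) * σ j = σ j * ∑ k ∈ Finset.range N, _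
    rw [Finset.sum_mul, Finset.mul_sum]
    exact Finset.sum_congr rfl fun k _ => by rw [smul_mul_assoc, mul_smul_comm, hLC k j hj]
  -- its range
  set W1 := LinearMap.range c
  let H1 : Subgroup X :=
    { carrier := {t | ∃ ht : t ∈ charStabilizer (centerIn D) χ,
        (∀ w ∈ W1, σ ⟨t, ht⟩ w ∈ W1) ∧ ∀ w ∈ W1, σ ⟨t, ht⟩⁻¹ w ∈ W1}
      one_mem' := ⟨one_mem _, fun w hw => by
        rw [show (⟨1, one_mem _⟩ : charStabilizer (centerIn D) χ) = 1 from rfl, map_one]; exact hw,
        fun w hw => by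
        rw [show (⟨1, one_mem _⟩ : charStabilizer (centerIn D) χ)⁻¹ = 1 from inv_one, map_one]; exact hw⟩
      mul_mem' := fun {a b} ⟨ha, e1, e2⟩ ⟨hb, e3, e4⟩ => ⟨mul_mem ha hb, fun w hw => by
          rw [show (⟨a * b, mul_mem ha hb⟩ : charStabilizer (centerIn D) χ) = ⟨a, ha⟩ * ⟨b, hb⟩ from rfl,
            map_mul]
          exact e1 _ (e3 w hw), fun w hw => by
          rw [show (⟨a * b, mul_mem ha hb⟩ : charStabilizer (centerIn D) χ) = ⟨a, ha⟩ * ⟨b, hb⟩ from rfl,
            mul_inv_rev, map_mul]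
          exact e4 _ (e2 w hw)⟩
      inv_mem' := fun {a} ⟨ha, e1, e2⟩ => ⟨inv_mem ha, e2, fun w hw => by
          rw [show (⟨a⁻¹, inv_mem ha⟩ : charStabilizer (centerIn D) χ) = ⟨a, ha⟩⁻¹ from rfl, inv_inv]
          exact e1 w hw⟩ }
  have hH1 : H1 ≤ charStabilizer (centerIn D) χ := fun t ⟨ht, _⟩ => ht
  have hTinv : ∀ w ∈ W1, T w ∈ W1 := by
    rintro _ ⟨v, rfl⟩
    exact ⟨η • T v, by rw [map_smul, ← Module.End.mul_apply, ← LinearMap.smul_apply, ← hTc]; rfl⟩
  have hgH1 : (g : X) ∈ H1 := by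
    refine ⟨g.2, hTinv, fun w hw => ?_⟩
    have key : ∀ k : ℕ, (T ^ k) w ∈ W1 := fun k => by
      induction k with
      | zero => exact hw
      | succ k ih => rw [pow_succ', Module.End.mul_apply]; exact hTinv _ ih
    have e : T' = T ^ (N - 1) := by
      calc T' = T' * T ^ N := by rw [hTn, mul_one]
        _ = T ^ (N - 1) := by
          rw [show N = N - 1 + 1 by omega, pow_succ', ← mul_assoc, hT'T, one_mul, Nat.add_sub_cancel]
    show T' w ∈ W1
    rw [e]; exact key _
  have hJH1 : h.inverted (gy : X) ≤ H1 := fun j hj => by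
    have key : ∀ (t : charStabilizer (centerIn D) χ), (t : X) ∈ h.inverted (gy : X) →
        ∀ w ∈ W1, σ t w ∈ W1 := by
      rintro t ht _ ⟨v, rfl⟩
      exact ⟨σ t v, by rw [← Module.End.mul_apply, hcC t ht]; rfl⟩
    exact ⟨hJle hj, key _ hj, key _ (inv_mem hj)⟩
  have hW1 : ∀ (t : H1), ∀ w ∈ W1, σ (inclusion hH1 t) w ∈ W1 := fun t w hw => by
    obtain ⟨ht, h1, -⟩ := t.2
    exact h1 w hw
  have : Nontrivial W1 := Submodule.nontrivial_iff_ne_bot.2 fun e => hi (LinearMap.range_eq_bot.1 e)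
  let σ1 : Representation K H1 W1 := subRep (σ.comp (inclusion hH1)) W1 hW1
  have e1 : σ1 ⟨g, hgH1⟩ = T.restrict hTinv := rfl
  have hdeg1 := (h.deg_and_card_of_ne hn hq2 hqK hgn hJH1 hgH1 σ1 (fun z hz => LinearMap.ext fun w =>
    Subtype.ext (congrArg (fun f : Module.End K _ => f (w : charSpace ρ (centerIn D) χ))
      (h.weightRep_center ⟨z, h.le_stab (centerIn_le D hz)⟩ hz)))
    (lt_of_le_of_lt (e1 ▸ deg_restrict_le hTinv) hdeg) hmov).2.1
  rw [e1] at hdeg1
  have h4 : 2 ^ 2 ≤ N := Nat.pow_le_pow_right two_pos hn2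
  have h1 := eq_one_of_intertwine (by omega) hTn hdeg hηN hTc hTinv (by omega)
  exact hi0 (inv_eq_one.1 h1)

end CfsgLib.FittingHeight
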